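import Groth.Agent.ExtDescLib.Basic
import Groth.Agent.QuotTransLib.Stack
import Groth.Agent.QuotStLib.Basic
import Groth.Agent.StkTopLib.Glue
import Groth.Agent.LiftAffLib.Fibre
import Groth.Agent.AlgSpLib.Fppf
import Groth.Prelude.Def_ChGrp

/-!
# Quotient stacks by a subgroup and balanced products
-/

set_option autoImplicit false
set_option linter.all false
set_option maxHeartbeats 1600000
set_option backward.isDefEq.respectTransparency false
set_option backward.isDefEq.respectTransparency.types false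

universe u

open CategoryTheory CategoryTheory.Limits MonoidalCategory CartesianMonoidalCategory MonObj GrpObj AlgebraicGeometry
open FibCat ExtDescLib

noncomputable section

namespace BalQuotLib

local notation "𝕜" => Scheme.fppfPrecoverage

variable {S : Scheme.{u}} {G X : Over S} [GrpObj G]

/-- The action on points. -/
abbrev sm (a : AlgGrp.Action G X) {T : Over S} (g : T ⟶ G) (x : T ⟶ X) : T ⟶ X := lift g x ≫ a.act

theorem comp_sm (a : AlgGrp.Action G X) {T T' : Over S} (t : T' ⟶ T) (g : T ⟶ G) (x : T ⟶ X) :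
    t ≫ sm a g x = sm a (t ≫ g) (t ≫ x) := comp_lift_assoc _ _ _ _

theorem sm_one (a : AlgGrp.Action G X) {T : Over S} (x : T ⟶ X) : sm a 1 x = x :=
  AlgGrp.Action.lift_one_act a x

theorem sm_mul (a : AlgGrp.Action G X) {T : Over S} (g g' : T ⟶ G) (x : T ⟶ X) :
    sm a (g * g') x = sm a g (sm a g' x) := AlgGrp.Action.lift_mul_act a g g' x

theorem sm_comp_eqv {Y : Over S} {a : AlgGrp.Action G X} {b : AlgGrp.Action G Y} {f : X ⟶ Y}
    (hf : a.act ≫ f = (G ◁ f) ≫ b.act) {T : Over S} (g : T ⟶ G) (x : T ⟶ X) :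
    sm a g x ≫ f = sm b g (x ≫ f) := by
  rw [Category.assoc, hf, lift_whiskerLeft_assoc]

/-- An action from its laws on points. -/
def mkAct (act : G ⊗ X ⟶ X) (one : ∀ {T : Over S} (x : T ⟶ X), lift 1 x ≫ act = x)
    (mul : ∀ {T : Over S} (g g' : T ⟶ G) (x : T ⟶ X), lift (g * g') x ≫ act = lift g (lift g' x ≫ act) ≫ act) :
    AlgGrp.Action G X where
  act := act
  one_act := by
    have h : fst (𝟙_ (Over S)) X ≫ η[G] = 1 := by rw [Hom.one_def, toUnit_unique (toUnit _) (fst _ _)]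
    calc (η[G] ▷ X) ≫ act = (lift (fst _ _) (snd _ _) ≫ (η[G] ▷ X)) ≫ act := by rw [lift_fst_snd, Category.id_comp]
      _ = lift 1 (snd _ _) ≫ act := by rw [lift_whiskerRight, h]
      _ = (λ_ X).hom := by rw [one, leftUnitor_hom]
  mul_act := by
    apply AlgGrp.Action.hom_ext_lift₃
    intro T g g' x
    rw [lift_whiskerRight_assoc, ← Hom.mul_def, mul, lift_lift_associator_hom_assoc, lift_whiskerLeft_assoc]

section Torsor

variable {aX : AlgGrp.Action G X} (A : AlgSt.QuotObj 𝕜 G aX)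

theorem sm_π {T : Over S} (g : T ⟶ G) (x : T ⟶ A.P) : sm A.act g x ≫ A.π = x ≫ A.π := by
  rw [Category.assoc, A.cart.w, lift_snd_assoc]

theorem exists_sm {T : Over S} (x y : T ⟶ A.P) (h : x ≫ A.π = y ≫ A.π) : ∃ g : T ⟶ G, sm A.act g y = x := by
  refine ⟨A.cart.lift x y h ≫ fst _ _, ?_⟩
  have e : A.cart.lift x y h = lift (A.cart.lift x y h ≫ fst _ _) y :=
    CartesianMonoidalCategory.hom_ext _ _ (by simp) (by rw [A.cart.lift_snd, lift_snd])
  change lift _ y ≫ A.act.act = x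
  rw [← e, A.cart.lift_fst]

theorem sm_inj {T : Over S} {g g' : T ⟶ G} {y : T ⟶ A.P} (h : sm A.act g y = sm A.act g' y) : g = g' := by
  have := A.cart.hom_ext h ((lift_snd g y).trans (lift_snd g' y).symm)
  simpa using congrArg (· ≫ fst _ _) this

theorem sm_φ {T : Over S} (g : T ⟶ G) (x : T ⟶ A.P) : sm A.act g x ≫ A.φ = sm aX g (x ≫ A.φ) :=
  sm_comp_eqv A.eqv g x

end Torsor

variable {H Z Y : Over S} [GrpObj H] (i : H ⟶ G) [IsMonHom i] (aZ : AlgGrp.Action H Z) (aY : AlgGrp.Action G Y)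
  (j₁ : Z ⟶ Y)

/-- `Y` is induced from `Z` along `i` through `j₁`. -/
structure Ind : Prop where
  mono : Mono i
  rel : ∀ {T : Over S} (h : T ⟶ H) (z : T ⟶ Z), sm aZ h z ≫ j₁ = sm aY (h ≫ i) (z ≫ j₁)
  sep : ∀ {T : Over S} (g g' : T ⟶ G) (z z' : T ⟶ Z), sm aY g (z ≫ j₁) = sm aY g' (z' ≫ j₁) →
    ∃ h : T ⟶ H, g' = g * (h ≫ i)⁻¹ ∧ z' = sm aZ h z
  cov : HasCover ((G ◁ j₁) ≫ aY.act)

variable {i aZ aY j₁} (I : Ind i aZ aY j₁) (A : AlgSt.QuotObj 𝕜 G aY)

variable (j₁) in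
/-- The total space of the reduced torsor. -/
abbrev PP : Over S := pullback A.φ j₁

variable (j₁) in
/-- Its map from the induced total space. -/
abbrev qA : G ⊗ PP j₁ A ⟶ A.P := (G ◁ pullback.fst A.φ j₁) ≫ A.act.act

theorem lift_qA {T : Over S} (g : T ⟶ G) (x : T ⟶ PP j₁ A) :
    lift g x ≫ qA j₁ A = sm A.act g (x ≫ pullback.fst A.φ j₁) := lift_whiskerLeft_assoc _ _ _ _

/-- The action on the reduced torsor. -/
def act' : H ⊗ PP j₁ A ⟶ PP j₁ A :=
  pullback.lift (sm A.act (fst H (PP j₁ A) ≫ i) (snd _ _ ≫ pullback.fst A.φ j₁))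
    (sm aZ (fst H (PP j₁ A)) (snd _ _ ≫ pullback.snd A.φ j₁))
    (by rw [sm_φ, I.rel, Category.assoc, Category.assoc, pullback.condition])

theorem act'_fst {T : Over S} (h : T ⟶ H) (x : T ⟶ PP j₁ A) :
    lift h x ≫ act' I A ≫ pullback.fst A.φ j₁ = sm A.act (h ≫ i) (x ≫ pullback.fst A.φ j₁) := by
  rw [act', pullback.lift_fst, comp_sm, lift_fst_assoc, lift_snd_assoc]

theorem act'_snd {T : Over S} (h : T ⟶ H) (x : T ⟶ PP j₁ A) :
    lift h x ≫ act' I A ≫ pullback.snd A.φ j₁ = sm aZ h (x ≫ pullback.snd A.φ j₁) := by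
  rw [act', pullback.lift_snd, comp_sm, lift_fst, lift_snd_assoc]

/-- The reduced torsor's action. -/
def actH : AlgGrp.Action H (PP j₁ A) := mkAct (act' I A)
  (fun x => by
    apply pullback.hom_ext
    · rw [Category.assoc, act'_fst, MonObj.one_comp, sm_one]
    · rw [Category.assoc, act'_snd, sm_one])
  (fun g g' x => by
    apply pullback.hom_ext
    · simp only [Category.assoc, act'_fst, MonObj.mul_comp, sm_mul]
    · simp only [Category.assoc, act'_snd, sm_mul])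

include I in
theorem exists_cov {T : Over S} (p : T ⟶ A.P) :
    ∃ (W : Over S) (c : W ⟶ T) (g : W ⟶ G) (x : W ⟶ PP j₁ A),
      (Flat c.left ∧ Surjective c.left ∧ LocallyOfFinitePresentation c.left) ∧
        sm A.act g (x ≫ pullback.fst A.φ j₁) = c ≫ p := by
  obtain ⟨T₁, π₁, t₁, hf, hs, hl, ht⟩ := I.cov
  let c := pullback.fst (p ≫ A.φ) π₁
  let gz := pullback.snd (p ≫ A.φ) π₁ ≫ t₁
  let g := gz ≫ fst G Z
  let z := gz ≫ snd G Z
  have hgz : lift g z = gz := by simp [g, z]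
  have hφ : (c ≫ p) ≫ A.φ = sm aY g (z ≫ j₁) := by
    change _ = lift g (z ≫ j₁) ≫ aY.act
    rw [← lift_whiskerLeft_assoc, hgz, Category.assoc, Category.assoc, ht]
    exact pullback.condition
  let p₀ := sm A.act g⁻¹ (c ≫ p)
  have hp₀ : p₀ ≫ A.φ = z ≫ j₁ := by rw [sm_φ, hφ, ← sm_mul, inv_mul_cancel, sm_one]
  refine ⟨_, c, g, pullback.lift p₀ z hp₀, ?_, by rw [pullback.lift_fst, ← sm_mul, mul_inv_cancel, sm_one]⟩
  have sq := (IsPullback.of_hasPullback (p ≫ A.φ) π₁).flip.map (Over.forget S)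
  exact ⟨MorphismProperty.of_isPullback (P := @Flat) sq hf, MorphismProperty.of_isPullback (P := @Surjective) sq hs,
    MorphismProperty.of_isPullback (P := @LocallyOfFinitePresentation) sq hl⟩

include I in
theorem hasCover_qA : HasCover (qA j₁ A) := by
  obtain ⟨W, c, g, x, ⟨hf, hs, hl⟩, h⟩ := exists_cov I A (𝟙 A.P)
  exact ⟨W, c, lift g x, hf, hs, hl, by rw [lift_qA, h, Category.comp_id]⟩

theorem one_inj (hi : Mono i) {T : Over S} {h h' : T ⟶ H} (e : h ≫ i = h' ≫ i) : h = h' :=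
  (cancel_mono i).1 e

include I in
theorem sep_one {T : Over S} (g : T ⟶ G) (z z' : T ⟶ Z) (e : sm aY g (z ≫ j₁) = z' ≫ j₁) :
    ∃ h : T ⟶ H, h ≫ i = g ∧ z' = sm aZ h z := by
  obtain ⟨h, hg, hz⟩ := I.sep g 1 z z' (e.trans (sm_one _ _).symm)
  exact ⟨h, (mul_inv_eq_one.1 hg.symm).symm, hz⟩

/-- The reduced torsor. -/
def obj : AlgSt.QuotObj 𝕜 H aZ where
  base := A.base
  P := PP j₁ A
  act := actH I A
  π := pullback.fst A.φ j₁ ≫ A.π
  cart := by
    have w : (actH I A).act ≫ pullback.fst A.φ j₁ ≫ A.π = snd _ _ ≫ pullback.fst A.φ j₁ ≫ A.π := by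
      have := act'_fst I A (fst H (PP j₁ A)) (snd _ _)
      rw [lift_fst_snd, Category.id_comp] at this
      change act' I A ≫ _ = _
      rw [← Category.assoc, this, sm_π, Category.assoc]
    have ex : ∀ {T : Over S} (x y : T ⟶ PP j₁ A),
        x ≫ pullback.fst A.φ j₁ ≫ A.π = y ≫ pullback.fst A.φ j₁ ≫ A.π →
          ∃ l : T ⟶ H ⊗ PP j₁ A, l ≫ (actH I A).act = x ∧ l ≫ snd _ _ = y := by
      intro T x y e
      obtain ⟨g, hg⟩ := exists_sm A (x ≫ pullback.fst A.φ j₁) (y ≫ pullback.fst A.φ j₁)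
        (by simpa using e)
      obtain ⟨h, hh, hz⟩ := sep_one I g (y ≫ pullback.snd A.φ j₁) (x ≫ pullback.snd A.φ j₁) (by
        rw [Category.assoc, Category.assoc, ← pullback.condition, ← Category.assoc, ← sm_φ, hg, Category.assoc])
      refine ⟨lift h y, ?_, lift_snd _ _⟩
      change lift h y ≫ act' I A = x
      apply pullback.hom_ext
      · rw [Category.assoc, act'_fst, hh, hg]
      · rw [Category.assoc, act'_snd, hz]
    refine ⟨⟨w⟩, ⟨PullbackCone.IsLimit.mk w (fun s => (ex s.fst s.snd s.condition).choose)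
      (fun s => (ex s.fst s.snd s.condition).choose_spec.1)
      (fun s => (ex s.fst s.snd s.condition).choose_spec.2) (fun s m h₁ h₂ => ?_)⟩⟩
    obtain ⟨k₁, k₂⟩ := (ex s.fst s.snd s.condition).choose_spec
    apply CartesianMonoidalCategory.hom_ext
    · refine one_inj I.mono (sm_inj A (y := s.snd ≫ pullback.fst A.φ j₁) ?_)
      have key : ∀ (l : s.pt ⟶ H ⊗ PP j₁ A), l ≫ act' I A = s.fst → l ≫ snd _ _ = s.snd →
          sm A.act ((l ≫ fst _ _) ≫ i) (s.snd ≫ pullback.fst A.φ j₁) = s.fst ≫ pullback.fst A.φ j₁ :=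
        fun l a b => by
          rw [← act'_fst I A, ← Category.assoc, ← b, ← comp_lift, lift_fst_snd, Category.comp_id, a]
      exact (key m h₁ h₂).trans (key _ k₁ k₂).symm
    · exact h₂.trans k₂.symm
  loc := by
    obtain ⟨T, π, t, hf, hs, hl, ht⟩ := hasCover_of_locallyTrivial A.π A.loc
    obtain ⟨W, c, g, x, ⟨cf, cs, cl⟩, hx⟩ := exists_cov I A t
    haveI := hf; haveI := hs; haveI := hl; haveI := cf; haveI := cs; haveI := cl
    refine ⟨Presieve.singleton (c ≫ π).left, ?_, fun S' f hf' => ?_⟩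
    · haveI : Flat (c ≫ π).left := inferInstanceAs (Flat (c.left ≫ π.left))
      haveI : Surjective (c ≫ π).left := inferInstanceAs (Surjective (c.left ≫ π.left))
      haveI : LocallyOfFinitePresentation (c ≫ π).left :=
        inferInstanceAs (LocallyOfFinitePresentation (c.left ≫ π.left))
      exact Scheme.Hom.singleton_mem_fppfPrecoverage _
    · obtain ⟨⟩ := hf'
      refine ⟨x.left, ?_⟩
      have : x ≫ pullback.fst A.φ j₁ ≫ A.π = c ≫ π := by
        rw [← Category.assoc, ← sm_π A g, hx, Category.assoc, ht]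
      exact congrArg (fun r => r.left) this
  φ := pullback.snd A.φ j₁
  eqv := by
    have := act'_snd I A (fst H (PP j₁ A)) (snd _ _)
    rw [lift_fst_snd, Category.id_comp] at this
    change act' I A ≫ _ = _
    rw [this, QuotStLib.whisker_eq_lift]

/-- The top map of a reduced morphism. -/
abbrev topOf {A B : AlgSt.QuotObj 𝕜 G aY} (k : A ⟶ B) : PP j₁ A ⟶ PP j₁ B :=
  pullback.lift (pullback.fst A.φ j₁ ≫ k.top) (pullback.snd A.φ j₁)
    (by rw [Category.assoc, k.wφ, pullback.condition])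

/-- Reduction of a morphism. -/
def mapHom {A B : AlgSt.QuotObj 𝕜 G aY} (k : A ⟶ B) : obj I A ⟶ obj I B where
  base := k.base
  top := topOf k
  eqv := by
    change act' I A ≫ topOf k = (H ◁ topOf k) ≫ act' I B
    rw [← Category.id_comp (act' I A ≫ _), ← lift_fst_snd]
    conv_rhs => rw [← Category.id_comp ((H ◁ topOf k) ≫ act' I B), ← lift_fst_snd]
    rw [lift_whiskerLeft_assoc]
    apply pullback.hom_ext
    · simp only [Category.assoc, pullback.lift_fst, act'_fst]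
      rw [reassoc_of% (act'_fst I A), k.eqv, lift_whiskerLeft_assoc, Category.assoc]
    · simp only [Category.assoc, pullback.lift_snd, act'_snd]
  cart := by
    have h₁ : IsPullback (topOf k) (pullback.fst A.φ j₁) (pullback.fst B.φ j₁) k.top := by
      refine IsPullback.of_right ?_ (pullback.lift_fst _ _ _) (IsPullback.of_hasPullback B.φ j₁).flip
      rw [pullback.lift_snd, k.wφ]
      exact (IsPullback.of_hasPullback A.φ j₁).flip
    exact h₁.paste_vert k.cart
  wφ := pullback.lift_snd _ _ _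

/-- The reduction functor. -/
def E : AlgSt.QuotSt 𝕜 G aY ⥤ᵇ AlgSt.QuotSt 𝕜 H aZ where
  toFunctor :=
    { obj := obj I
      map := mapHom I
      map_id := fun A => AlgSt.QuotObj.hom_ext rfl (pullback.hom_ext
        ((pullback.lift_fst _ _ _).trans ((Category.comp_id _).trans (Category.id_comp _).symm))
        ((pullback.lift_snd _ _ _).trans (Category.id_comp _).symm))
      map_comp := fun {A B C} k k' => AlgSt.QuotObj.hom_ext rfl (by
        change topOf (k ≫ k') = topOf k ≫ topOf k'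
        apply pullback.hom_ext <;> simp [topOf]) }
  w := rfl

theorem faithful_E : (E I).toFunctor.Faithful := ⟨fun {A B} k k' e => by
  refine AlgSt.QuotObj.hom_ext (congrArg (fun r : obj I A ⟶ obj I B => r.base) e) (cancel_cover _ (hasCover_qA I A) _ _ ?_)
  have et : topOf (j₁ := j₁) k = topOf k' := congrArg (fun r : obj I A ⟶ obj I B => r.top) e
  have e' := congrArg (· ≫ pullback.fst B.φ j₁) et
  simp only [topOf, pullback.lift_fst] at e'
  simp only [qA, Category.assoc]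
  rw [k.eqv, k'.eqv, ← MonoidalCategory.whiskerLeft_comp_assoc, e', MonoidalCategory.whiskerLeft_comp_assoc]⟩

/-- The induced map on total spaces. -/
theorem exists_top {A B : AlgSt.QuotObj 𝕜 G aY} (m : obj I A ⟶ obj I B) :
    ∃ u : A.P ⟶ B.P, qA j₁ A ≫ u = (G ◁ (m.top ≫ pullback.fst B.φ j₁)) ≫ B.act.act ∧
      A.act.act ≫ u = (G ◁ u) ≫ B.act.act ∧ u ≫ B.π = A.π ≫ m.base ∧ u ≫ B.φ = A.φ := by
  have hmz : m.top ≫ pullback.snd B.φ j₁ = pullback.snd A.φ j₁ := m.wφ
  have hmπ : (m.top ≫ pullback.fst B.φ j₁) ≫ B.π = pullback.fst A.φ j₁ ≫ A.π ≫ m.base := by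
    rw [Category.assoc, ← Category.assoc (pullback.fst A.φ j₁)]
    exact m.cart.w
  obtain ⟨u, hu⟩ := descend_cover _ (hasCover_qA I A) ((G ◁ (m.top ≫ pullback.fst B.φ j₁)) ≫ B.act.act)
    fun T a b e => by
    obtain ⟨g₁, x₁, rfl⟩ : ∃ g x, a = lift g x := ⟨a ≫ fst _ _, a ≫ snd _ _, by simp⟩
    obtain ⟨g₂, x₂, rfl⟩ : ∃ g x, b = lift g x := ⟨b ≫ fst _ _, b ≫ snd _ _, by simp⟩
    rw [lift_qA, lift_qA] at e
    rw [lift_whiskerLeft_assoc, lift_whiskerLeft_assoc]
    have eφ : sm A.act g₁ (x₁ ≫ pullback.fst A.φ j₁) ≫ A.φ = sm A.act g₂ (x₂ ≫ pullback.fst A.φ j₁) ≫ A.φ :=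
      congrArg (· ≫ A.φ) e
    rw [sm_φ, sm_φ, Category.assoc, Category.assoc, pullback.condition, ← Category.assoc, ← Category.assoc] at eφ
    obtain ⟨h, hg, hz⟩ := I.sep _ _ _ _ eφ
    have hx : x₂ = lift h x₁ ≫ act' I A := by
      apply pullback.hom_ext
      · rw [Category.assoc, act'_fst]
        rw [hg, sm_mul] at e
        have := congrArg (fun r => sm A.act (h ≫ i) (sm A.act g₁⁻¹ r)) e
        simp only [← sm_mul, inv_mul_cancel, mul_one, mul_inv_cancel_left, inv_mul_cancel_left, mul_inv_cancel,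
          sm_one] at this
        exact this.symm
      · rw [Category.assoc, act'_snd, hz]
    have hxm : x₂ ≫ m.top = lift h (x₁ ≫ m.top) ≫ act' I B := by
      rw [hx, Category.assoc]
      refine (congrArg (lift h x₁ ≫ ·) m.eqv).trans ?_
      exact lift_whiskerLeft_assoc _ _ _ _
    change sm B.act g₁ _ = sm B.act g₂ _
    rw [← Category.assoc x₂, hxm, Category.assoc, act'_fst, hg, ← sm_mul, inv_mul_cancel_right, Category.assoc]
  have key : ∀ {T : Over S} (g : T ⟶ G) (x : T ⟶ PP j₁ A),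
      sm A.act g (x ≫ pullback.fst A.φ j₁) ≫ u = sm B.act g (x ≫ m.top ≫ pullback.fst B.φ j₁) := fun g x => by
    rw [← lift_qA, Category.assoc, hu, lift_whiskerLeft_assoc]
  refine ⟨u, hu, ?_, ?_, ?_⟩
  · have hq : HasCover (𝟙 G ⊗ₘ qA j₁ A) := by
      refine hasCover_tensor _ _ ⟨G, 𝟙 G, 𝟙 G, ?_, ?_, ?_, Category.id_comp _⟩ (hasCover_qA I A)
      · exact inferInstanceAs (Flat (𝟙 G.left))
      · exact inferInstanceAs (Surjective (𝟙 G.left))
      · exact inferInstanceAs (LocallyOfFinitePresentation (𝟙 G.left))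
    refine cancel_cover _ hq _ _ ?_
    rw [id_tensorHom]
    apply AlgGrp.Action.hom_ext_lift₂
    intro T g r
    obtain ⟨g', x, rfl⟩ : ∃ g x, r = lift g x := ⟨r ≫ fst _ _, r ≫ snd _ _, by simp⟩
    rw [lift_whiskerLeft_assoc, lift_whiskerLeft_assoc, lift_whiskerLeft_assoc, lift_qA, ← Category.assoc]
    rw [lift_whiskerLeft_assoc]
    change sm A.act g (sm A.act g' _) ≫ u = sm B.act g (sm A.act g' _ ≫ u)
    rw [← sm_mul, key, key, sm_mul]
  · refine cancel_cover _ (hasCover_qA I A) _ _ ?_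
    apply AlgGrp.Action.hom_ext_lift₂
    intro T g x
    rw [← Category.assoc, lift_qA, ← Category.assoc, key, sm_π, ← Category.assoc (lift g x), lift_qA,
      ← Category.assoc (sm A.act g _), sm_π]
    simp only [Category.assoc] at hmπ ⊢
    rw [hmπ]
  · refine cancel_cover _ (hasCover_qA I A) _ _ ?_
    apply AlgGrp.Action.hom_ext_lift₂
    intro T g x
    rw [← Category.assoc, lift_qA, ← Category.assoc, key, sm_φ, ← Category.assoc (lift g x), lift_qA, sm_φ]
    simp only [Category.assoc, pullback.condition]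
    rw [reassoc_of% hmz]

theorem exists_preimage_iso {A C : AlgSt.QuotObj 𝕜 G aY} (n : obj I A ⟶ obj I C) [IsIso n] :
    ∃ k : A ⟶ C, mapHom I k = n := by
  obtain ⟨u, hu, hu₁, hu₂, hu₃⟩ := exists_top I n
  obtain ⟨v, hv, hv₁, hv₂, hv₃⟩ := exists_top I (inv n)
  have hid : ∀ {A C : AlgSt.QuotObj 𝕜 G aY} (n : obj I A ⟶ obj I C) (n' : obj I C ⟶ obj I A) (u : A.P ⟶ C.P)
      (v : C.P ⟶ A.P), qA j₁ A ≫ u = (G ◁ (n.top ≫ pullback.fst C.φ j₁)) ≫ C.act.act →
      qA j₁ C ≫ v = (G ◁ (n'.top ≫ pullback.fst A.φ j₁)) ≫ A.act.act → n ≫ n' = 𝟙 _ → u ≫ v = 𝟙 _ := by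
    intro A C n n' u v hu hv e
    refine cancel_cover _ (hasCover_qA I A) _ _ ?_
    have et : n.top ≫ n'.top = 𝟙 _ := congrArg AlgSt.QuotObj.Hom.top e
    have e1 : (G ◁ (n.top ≫ pullback.fst C.φ j₁)) ≫ C.act.act = (G ◁ n.top) ≫ qA j₁ C := by
      rw [MonoidalCategory.whiskerLeft_comp_assoc]
    rw [← Category.assoc, hu, e1, Category.assoc, hv, ← MonoidalCategory.whiskerLeft_comp_assoc,
      reassoc_of% et, Category.comp_id]
  haveI : IsIso u := ⟨v, hid n (inv n) u v hu hv (IsIso.hom_inv_id n),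
    hid (inv n) n v u hv hu (IsIso.inv_hom_id n)⟩
  haveI : IsIso n.base := inferInstanceAs (IsIso ((AlgSt.QuotObj.forget 𝕜 H aZ).map n))
  refine ⟨{ base := n.base, top := u, eqv := hu₁, cart := IsPullback.of_horiz_isIso ⟨hu₂⟩, wφ := hu₃ },
    AlgSt.QuotObj.hom_ext rfl (pullback.hom_ext ?_ ?_)⟩
  · change pullback.lift _ _ _ ≫ pullback.fst C.φ j₁ = n.top ≫ pullback.fst C.φ j₁
    rw [pullback.lift_fst]
    have := lift (1 : PP j₁ A ⟶ G) (𝟙 _) ≫= hu
    rw [← Category.assoc, lift_qA, sm_one, lift_whiskerLeft_assoc, Category.id_comp, Category.id_comp] at this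
    exact this.trans (sm_one _ _)
  · exact (pullback.lift_snd _ _ _).trans n.wφ.symm

theorem full_E [IsAffineHom G.hom] [IsAffineHom H.hom] : (E I).toFunctor.Full := ⟨fun {A B} m => by
  haveI := QuotTransLib.isFibGrpd (aX := aY)
  haveI := QuotTransLib.isFibGrpd (aX := aZ)
  obtain ⟨C, k₀, hC, hk₀⟩ := LiftAffLib.exists_map (AlgSt.QuotObj.forget 𝕜 G aY) (a := B) (T := A.base) m.base
  obtain ⟨n, hn, hn'⟩ := LiftAffLib.exists_fac (AlgSt.QuotObj.forget 𝕜 H aZ) m (mapHom I k₀)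
    (eqToHom hC.symm) (by
      change eqToHom hC.symm ≫ k₀.base = m.base
      rw [show k₀.base = eqToHom hC ≫ m.base from hk₀]
      simp)
  haveI : IsIso ((AlgSt.QuotObj.forget 𝕜 H aZ).map n) := by rw [hn]; infer_instance
  haveI : IsIso n := LiftAffLib.isIso_of_map (AlgSt.QuotObj.forget 𝕜 H aZ) n
  obtain ⟨k, rfl⟩ := exists_preimage_iso I n
  exact ⟨k ≫ k₀, ((E I).toFunctor.map_comp k k₀).trans hn'⟩⟩

include I in
/-- The quotient stacks agree. -/
theorem isQuotientOf [IsAffineHom G.hom] [IsAffineHom H.hom] :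
    AlgSt.IsQuotientOf 𝕜 H aZ (AlgSt.QuotSt 𝕜 G aY) := by
  haveI := faithful_E I
  haveI := full_E I
  haveI := QuotTransLib.isFibGrpd (aX := aZ)
  have hE : IsEquivOver (E I) := by
    refine (StkTopLib.isEquivOver_iff_locEssSurj QuotTransLib.isStack_quotSt QuotTransLib.isStack_quotSt _).2 ?_
    intro B
    obtain ⟨T, π, t, hf, hs, hl, ht⟩ := hasCover_of_locallyTrivial B.π B.loc
    refine ⟨Sieve.ofArrows (fun _ : PUnit.{u + 1} => T) (fun _ => π), AlgSpLib.ofArrows_mem_J _ (fun _ => hf)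
      (fun _ => hl) (fun x => ⟨⟨⟩, by obtain ⟨y, hy⟩ := hs.surj x; exact ⟨y, hy⟩⟩), fun V f hVf => ?_⟩
    obtain ⟨_, a, _, ⟨⟩, rfl⟩ := hVf
    let z := (a ≫ t) ≫ B.φ
    let A₀ := QuotStLib.triv 𝕜 aY (z ≫ j₁)
    let s : V ⟶ PP j₁ A₀ := pullback.lift (lift (1 : V ⟶ G) (𝟙 V)) z (by
      change lift (1 : V ⟶ G) (𝟙 V) ≫ (G ◁ (z ≫ j₁)) ≫ aY.act = _
      rw [lift_whiskerLeft_assoc, Category.id_comp]
      exact sm_one aY _)
    let h₁ : QuotStLib.triv 𝕜 aZ z ⟶ obj I A₀ := QuotStLib.homOfSection _ s z (pullback.lift_snd _ _ _) (𝟙 V) (by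
      change s ≫ pullback.fst A₀.φ j₁ ≫ A₀.π = 𝟙 V
      rw [pullback.lift_fst_assoc]
      exact lift_snd _ _)
    let h₂ : QuotStLib.triv 𝕜 aZ z ⟶ B := QuotStLib.homOfSection B (a ≫ t) z rfl (a ≫ π)
      (by rw [Category.assoc, ht])
    haveI : IsIso ((AlgSt.QuotObj.forget 𝕜 H aZ).map h₁) := inferInstanceAs (IsIso (𝟙 V))
    haveI : IsIso h₁ := LiftAffLib.isIso_of_map (AlgSt.QuotObj.forget 𝕜 H aZ) h₁
    refine ⟨A₀, inv h₁ ≫ h₂, IsHomLift.of_fac' _ _ _ rfl rfl ?_⟩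
    change (AlgSt.QuotObj.forget 𝕜 H aZ).map (inv h₁ ≫ h₂) = _
    rw [Functor.map_comp, Functor.map_inv]
    change inv (𝟙 V) ≫ (a ≫ π) = _
    simp
  obtain ⟨e, he₁, he₂⟩ := hE
  exact ⟨e, E I, he₂, he₁⟩

end BalQuotLib
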