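import Groth.Agent.BalQuotLib.Basic

/-!
# Balanced products and homogeneous spaces as induced schemes
-/

set_option autoImplicit false
set_option linter.all false
set_option backward.isDefEq.respectTransparency false
set_option backward.isDefEq.respectTransparency.types false

universe u

open CategoryTheory CategoryTheory.Limits MonoidalCategory CartesianMonoidalCategory MonObj GrpObj AlgebraicGeometry
open ExtDescLib

noncomputable section

namespace BalQuotLib

variable {S : Scheme.{u}} {G H Z Y : Over S} [GrpObj G] [GrpObj H] (i : H ⟶ G) [IsMonHom i]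

theorem mono_of_closed [IsClosedImmersion i.left] : Mono i :=
  (Over.forget _).mono_of_mono_map (inferInstanceAs (Mono i.left))

theorem affine_of_closed [IsClosedImmersion i.left] [IsAffineHom G.hom] : IsAffineHom H.hom :=
  Over.w i ▸ inferInstanceAs (IsAffineHom (i.left ≫ G.hom))

theorem inv_comp' {T : Over S} (h : T ⟶ H) : h⁻¹ ≫ i = (h ≫ i)⁻¹ := GrpObj.inv_comp h i

/-- A balanced product is induced. -/
theorem ind_of_balProd [IsClosedImmersion i.left] (aZ : AlgGrp.Action H Z) (aY : AlgGrp.Action G Y) (j : G ⊗ Z ⟶ Y)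
    (h : ChGrp.IsBalProd Scheme.fppfPrecoverage i aZ aY j) :
    Ind i aZ aY (lift (1 : Z ⟶ G) (𝟙 Z) ≫ j) := by
  obtain ⟨he, hpb, hloc⟩ := h
  have hj : ∀ {T : Over S} (g : T ⟶ G) (z : T ⟶ Z),
      sm aY g (z ≫ lift (1 : Z ⟶ G) (𝟙 Z) ≫ j) = lift g z ≫ j := fun g z => by
    rw [← Category.assoc, comp_lift, MonObj.comp_one, Category.comp_id]
    refine (sm_comp_eqv he g (lift 1 z)).symm.trans ?_
    change (lift g (lift 1 z) ≫ _) ≫ j = _
    rw [AlgGrp.Action.lift_prod_act, AlgGrp.Action.lift_trivial_act]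
    congr 2
    exact (Hom.mul_def g (1 : _ ⟶ G)).symm.trans (mul_one g)
  refine ⟨mono_of_closed i, fun {T} h z => ?_, fun {T} g g' z z' e => ?_, ?_⟩
  · rw [hj, ← Category.assoc _ (lift (1 : Z ⟶ G) (𝟙 Z)) j, comp_lift, MonObj.comp_one, Category.comp_id]
    have := lift h (lift (h ≫ i) z) ≫= hpb.w
    rw [← Category.assoc, ← Category.assoc, ChGrp.lift_twist_act, lift_snd, mul_inv_cancel] at this
    exact this
  · rw [hj, hj] at e
    refine ⟨hpb.lift (lift g' z') (lift g z) e.symm ≫ fst _ _, ?_⟩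
    have e' : hpb.lift (lift g' z') (lift g z) e.symm =
        lift (hpb.lift (lift g' z') (lift g z) e.symm ≫ fst _ _) (lift g z) :=
      CartesianMonoidalCategory.hom_ext _ _ (by simp) (by rw [hpb.lift_snd, lift_snd])
    have := hpb.lift_fst (lift g' z') (lift g z) e.symm
    rw [e', ChGrp.lift_twist_act] at this
    exact ⟨((congrArg (· ≫ fst _ _) this).trans (lift_fst _ _)).symm.trans (lift_fst _ _),
      ((congrArg (· ≫ snd _ _) this).trans (lift_snd _ _)).symm.trans (lift_snd _ _)⟩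
  · have : (G ◁ (lift (1 : Z ⟶ G) (𝟙 Z) ≫ j)) ≫ aY.act = j := by
      apply AlgGrp.Action.hom_ext_lift₂
      intro T g z
      rw [lift_whiskerLeft_assoc]
      exact hj g z
    rw [this]
    exact hasCover_of_locallyTrivial j hloc

variable {Q X : Over S}

/-- A homogeneous space times a scheme is induced. -/
theorem ind_of_homog [IsClosedImmersion i.left] (aX : AlgGrp.Action G X) (aQ : AlgGrp.Action G Q)
    (q₀ : 𝟙_ (Over S) ⟶ Q) (h : ChGrp.IsHomog Scheme.fppfPrecoverage i aQ q₀) :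
    Ind i (aX.restrict i) (aQ.prod aX) (lift (toUnit X ≫ q₀) (𝟙 X)) := by
  obtain ⟨-, hpb, hloc⟩ := h
  have ho : ∀ {T : Over S} (g : T ⟶ G), g ≫ aQ.orbitMap q₀ = sm aQ g (toUnit T ≫ q₀) := fun g =>
    AlgGrp.Action.comp_orbitMap aQ g q₀
  have hz : ∀ {T : Over S} (z : T ⟶ X), z ≫ lift (toUnit X ≫ q₀) (𝟙 X) = lift (toUnit T ≫ q₀) z := fun z => by
    rw [comp_lift, ← Category.assoc, comp_toUnit, Category.comp_id]
  have hj : ∀ {T : Over S} (g : T ⟶ G) (z : T ⟶ X),
      sm (aQ.prod aX) g (z ≫ lift (toUnit X ≫ q₀) (𝟙 X)) = lift (g ≫ aQ.orbitMap q₀) (sm aX g z) := fun g z => by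
    rw [hz, ho]
    exact AlgGrp.Action.lift_prod_act _ _ _ _ _
  refine ⟨mono_of_closed i, fun {T} h z => ?_, fun {T} g g' z z' e => ?_, ?_⟩
  · rw [hj, hz]
    have := lift (1 : T ⟶ G) h ≫= hpb.w
    rw [← Category.assoc, ← Category.assoc, lift_fst, lift_whiskerLeft_assoc] at this
    have e : lift (1 : T ⟶ G) (h ≫ i) ≫ μ[G] = h ≫ i := (Hom.mul_def (1 : T ⟶ G) (h ≫ i)).symm.trans (one_mul _)
    rw [e, ho, sm_one] at this
    refine CartesianMonoidalCategory.hom_ext _ _ ?_ ?_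
    · rw [lift_fst, lift_fst]; exact this
    · rw [lift_snd, lift_snd]; exact AlgGrp.Action.lift_restrict_act i aX h z
  · rw [hj, hj] at e
    have e₁ := congrArg (· ≫ fst _ _) e
    have e₂ := congrArg (· ≫ snd _ _) e
    simp only [lift_fst, lift_snd] at e₁ e₂
    let k := hpb.lift g g' e₁
    let h₀ := k ≫ snd _ _
    have hk : k = lift g h₀ := CartesianMonoidalCategory.hom_ext _ _
      (by rw [lift_fst]; exact hpb.lift_fst _ _ _) (by simp [h₀])
    have hg : g' = g * (h₀ ≫ i) := by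
      rw [← hpb.lift_snd g g' e₁, show hpb.lift g g' e₁ = k from rfl, hk, lift_whiskerLeft_assoc, Hom.mul_def]
    refine ⟨h₀⁻¹, by rw [inv_comp', _root_.inv_inv, hg], ?_⟩
    refine Eq.trans ?_ (AlgGrp.Action.lift_restrict_act i aX h₀⁻¹ z).symm
    change z' = sm aX (h₀⁻¹ ≫ i) z
    have e₃ : sm aX g'⁻¹ (sm aX g z) = z' := (congrArg (sm aX g'⁻¹) e₂).trans (by
      rw [← sm_mul, inv_mul_cancel, sm_one])
    rw [← e₃, ← sm_mul, hg, inv_comp', _root_.mul_inv_rev, inv_mul_cancel_right]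
  · obtain ⟨T, π, t, hf, hs, hl, ht⟩ := hasCover_tensor (aQ.orbitMap q₀) (𝟙 X)
      (hasCover_of_locallyTrivial _ hloc) ⟨X, 𝟙 X, 𝟙 X, inferInstanceAs (Flat (𝟙 X.left)),
        inferInstanceAs (Surjective (𝟙 X.left)), inferInstanceAs (LocallyOfFinitePresentation (𝟙 X.left)),
        Category.id_comp _⟩
    let θ : G ⊗ X ⟶ G ⊗ X := lift (fst G X) (sm aX (fst G X)⁻¹ (snd G X))
    refine ⟨T, π, t ≫ θ, hf, hs, hl, ?_⟩
    have : θ ≫ (G ◁ lift (toUnit X ≫ q₀) (𝟙 X)) ≫ (aQ.prod aX).act = aQ.orbitMap q₀ ⊗ₘ 𝟙 X := by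
      rw [lift_whiskerLeft_assoc]
      refine (hj _ _).trans ?_
      rw [← sm_mul, mul_inv_cancel, sm_one]
      refine CartesianMonoidalCategory.hom_ext _ _ ?_ ?_ <;> simp
    rw [Category.assoc, this, ht]

end BalQuotLib
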